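import Cfsg.Agent.Lib.CosetEnum.HeSp.Model
import Cfsg.Agent.Lib.CosetEnum.QuotCorr
import Cfsg.Agent.Lib.CosetEnum.He.Orbits

/-!
The point stabiliser of the Held group on 2058 points has a subgroup of index two isomorphic to `Sp₄(4)`.
-/

set_option autoImplicit false

namespace CfsgLib.CosetEnum.HeSp

open CfsgLib.CosetEnum

local notation "IP" => 18364758544493064720

theorem n_comp : allFrom (fun k => compOK He.table nTable nWords k) 2058 0 = true := by decide +kernel

theorem word_col {lsub : List (List ℕ)} {T' : List Tr} (hl : (lsub.all fun l => l.all fun x => decide (x < 16)) = true)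
    (hlen : lsub.length = T'.length) (hcomp : ∀ k < 2058, compOK He.table T' lsub k = true)
    (j : Fin T'.length) (k : Fin 2058) :
    ((He.π (((lsub.getD j.1 []).map He.g).prod)⁻¹ k : Fin 2058) : ℕ) = act T' j.1 k := by
  simp only [List.all_eq_true, decide_eq_true_eq] at hl
  have hj : j.1 < lsub.length := by rw [hlen]; exact j.2
  have h := Nat.eq_of_beq_eq_true (allFrom_spec _ _ _ (hcomp k k.2) j.1 (Nat.zero_le _) (by have := j.2; omega))
  rw [List.getD_eq_getElem _ _ hj] at h ⊢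
  rw [← h, ← prod_invWord He.hinv _ (hl _ (List.getElem_mem hj)), map_list_prod, List.map_map,
    List.map_congr_left (f := ⇑He.π ∘ He.g) (g := permOf He.table IP 2058 He.ip_ok He.row_ok)
      (fun x hx => He.hπ x (invWord_lt _ x hx)),
    prod_invWord_apply He.table IP 2058 He.ip_ok He.row_ok _ (hl _ (List.getElem_mem hj))]

/-- The generators of the stabiliser. -/
def hgen (j : Fin 8) : Cfsg.Spor.He := (((He.subWords.getD j.1 []).map He.g).prod)⁻¹

/-- The generators of the subgroup of index two. -/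
def ngen (j : Fin 5) : Cfsg.Spor.He := (((nWords.getD j.1 []).map He.g).prod)⁻¹

theorem π_hgen (j : Fin 8) (k : Fin 2058) : ((He.π (hgen j) k : Fin 2058) : ℕ) = act He.subTable j.1 k :=
  word_col (T' := He.subTable) (by decide +kernel) rfl He.sub_comp ⟨j.1, j.2⟩ k

theorem π_ngen (j : Fin 5) (k : Fin 2058) : ((He.π (ngen j) k : Fin 2058) : ℕ) = act nTable j.1 k :=
  word_col (T' := nTable) (by decide +kernel) rfl (fun k hk => allFrom_spec _ _ _ n_comp k (Nat.zero_le _) (by omega))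
    ⟨j.1, j.2⟩ k

/-- The subgroup of index two. -/
def N : Subgroup Cfsg.Spor.He := Subgroup.closure (Set.range ngen)

theorem hgen_mem (j : Fin 8) : hgen j ∈ He.H := by
  refine Subgroup.inv_mem _ (Subgroup.subset_closure ⟨He.subWords.getD j.1 [], ?_, rfl⟩)
  rw [List.getD_eq_getElem _ _ (show j.1 < He.subWords.length from j.2)]
  exact List.getElem_mem _

theorem H_le : He.H ≤ Subgroup.closure (Set.range hgen) := by
  refine (Subgroup.closure_le _).mpr ?_
  rintro _ ⟨l, hl, rfl⟩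
  obtain ⟨j, hj, rfl⟩ := List.getElem_of_mem hl
  refine inv_mem_iff.mp (Subgroup.subset_closure ⟨⟨j, hj⟩, ?_⟩)
  rw [hgen, List.getD_eq_getElem _ _ hj]

/-- The position of a generator among those of the stabiliser. -/
def nIdx (j : Fin 5) : Fin 8 := ![1, 2, 4, 6, 7] j

theorem nIdx_ok : ∀ j : Fin 5, nWords.getD j.1 [] = He.subWords.getD (nIdx j).1 [] := by
  decide +kernel

theorem ngen_eq (j : Fin 5) : ngen j = hgen (nIdx j) := by rw [ngen, hgen, nIdx_ok]

theorem N_le : N ≤ He.H := by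
  refine (Subgroup.closure_le _).mpr ?_
  rintro _ ⟨j, rfl⟩
  rw [ngen_eq]
  exact hgen_mem _

/-- The orbit of length 425. -/
def S : Set (Fin 2058) := {k | He.lab.get 20 k = 2}

theorem S_invariant (w : Cfsg.Spor.He) (hw : w ∈ He.H) (k : Fin 2058) : He.π w k ∈ S ↔ k ∈ S := by
  show He.lab.get 20 (He.π w k : Fin 2058) = 2 ↔ He.lab.get 20 k = 2
  rw [label_invariant He.π He.H He.subTable He.sub_spec.2 He.lab He.orbPar He.root He.orbit_ok w hw k]

/-- The map onto the 85 blocks. -/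
noncomputable def β (k : Fin 2058) : Fin 85 := ⟨Nat.mod (bet.get 20 k) 85, Nat.mod_lt _ (by decide)⟩

theorem sec_ok : ∀ x : Fin 85, sec.get 20 x.1 < 2058 ∧ He.lab.get 20 (sec.get 20 x.1) = 2 ∧
    Nat.mod (bet.get 20 (sec.get 20 x.1)) 85 = x.1 := by
  decide +kernel

theorem β_surj (x : Fin 85) : ∃ y ∈ S, β y = x :=
  ⟨⟨_, (sec_ok x).1⟩, (sec_ok x).2.1, Fin.ext (sec_ok x).2.2⟩

/-- The compatibility test. -/
noncomputable def quotOK (k : ℕ) : Bool :=
  strict (He.lab.get 20 k) fun c => !(Nat.beq c 2) || allFrom (fun j =>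
    Nat.beq (Nat.mod (bet.get 20 (act He.subTable j k)) 85) (act hTable j (Nat.mod (bet.get 20 k) 85))) 8 0

theorem quot_ok : allFrom quotOK 2058 0 = true := by decide +kernel

theorem β_hgen (j : Fin 8) (k : Fin 2058) (hk : k ∈ S) :
    ((β (He.π (hgen j) k) : Fin 85) : ℕ) = act hTable j.1 (β k : Fin 85) := by
  have h := allFrom_spec _ _ _ quot_ok k.1 (Nat.zero_le _) (by have := k.2; omega)
  have hk : He.lab.get 20 k.1 = 2 := hk
  simp only [quotOK, strict_eq, hk, Nat.beq_refl, Bool.not_true, Bool.false_or] at h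
  show Nat.mod (bet.get 20 (He.π (hgen j) k : Fin 2058)) 85 = _
  rw [π_hgen]
  exact Nat.eq_of_beq_eq_true (allFrom_spec _ _ _ h j.1 (Nat.zero_le _) (by have := j.2; omega))

theorem pTable_eq : ∀ j : Fin 5, ∀ k : Fin 85, act pTable j.1 k.1 = act hTable (nIdx j).1 k.1 := by
  decide +kernel

/-- Product of transpositions. -/
def swapPerm (l : List (ℕ × ℕ)) : Equiv.Perm (Fin 85) :=
  (l.map fun q => Equiv.swap (Fin.ofNat 85 q.1) (Fin.ofNat 85 q.2)).prod

/-- The permutations of the stabiliser on the blocks. -/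
def hperm (j : Fin 8) : Equiv.Perm (Fin 85) := swapPerm (swapList.getD j.1 [])

theorem hperm_ok : ∀ j : Fin 8, ∀ k : Fin 85, (hperm j k).1 = act hTable j.1 k.1 := by
  decide +kernel

theorem swap_distinct : ∀ j : Fin 8, ∀ q ∈ swapList.getD j.1 [], Fin.ofNat 85 q.1 ≠ Fin.ofNat 85 q.2 := by
  decide +kernel

theorem sign_hperm (j : Fin 8) : Equiv.Perm.sign (hperm j) = (-1) ^ (swapList.getD j.1 []).length := by
  rw [hperm, swapPerm, Equiv.Perm.sign_prod_list_swap, List.length_map]
  intro g hg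
  obtain ⟨q, hq, rfl⟩ := List.mem_map.mp hg
  exact ⟨_, _, swap_distinct j q hq, rfl⟩

theorem parity : ∀ j : Fin 5, (swapList.getD (nIdx j).1 []).length % 2 = 0 := by decide +kernel

theorem card_N_le : Nat.card N ≤ 979200 := by
  haveI : Finite Cfsg.Spor.He := He.finite
  obtain ⟨φ, -, hφ⟩ := exists_hom_of_quot He.π (MonoidHom.id (Equiv.Perm (Fin 85))) Function.injective_id β S β_surj
    hgen hperm He.H H_le (fun j y => S_invariant _ (hgen_mem j) y)
    (fun j y hy => Fin.ext (by rw [β_hgen j y hy]; exact (hperm_ok j _).symm))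
  let χ : He.H →* ℤˣ := Equiv.Perm.sign.comp φ
  have hN : N.subgroupOf He.H ≤ χ.ker := by
    rintro ⟨w, hw⟩ (hwN : w ∈ N)
    suffices h : ∀ hw : w ∈ He.H, (⟨w, hw⟩ : He.H) ∈ χ.ker from h hw
    refine Subgroup.closure_induction (p := fun w _ => ∀ hw : w ∈ He.H, (⟨w, hw⟩ : He.H) ∈ χ.ker) ?_ ?_ ?_ ?_ hwN
    · rintro _ ⟨j, rfl⟩ hw
      show Equiv.Perm.sign (φ ⟨ngen j, hw⟩) = 1
      have : φ ⟨ngen j, hw⟩ = hperm (nIdx j) := by
        have e : (⟨ngen j, hw⟩ : He.H) = ⟨hgen (nIdx j), hgen_mem _⟩ := Subtype.ext (ngen_eq j)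
        rw [e, hφ]
      rw [this, sign_hperm]
      exact (Nat.even_iff.mpr (parity j)).neg_one_pow
    · intro hw
      exact χ.ker.one_mem
    · intro a b ha hb iha ihb hw
      exact χ.ker.mul_mem (iha (N_le ha)) (ihb (N_le hb))
    · intro a ha iha hw
      exact χ.ker.inv_mem (iha (N_le ha))
  have h5 : χ.ker ≠ ⊤ := by
    intro h
    have h1 : χ ⟨hgen 5, hgen_mem 5⟩ = 1 := by
      rw [← MonoidHom.mem_ker, h]; exact Subgroup.mem_top _
    have h2 : Equiv.Perm.sign (φ ⟨hgen 5, hgen_mem 5⟩) = -1 := by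
      rw [hφ, sign_hperm]
      have : (swapList.getD (5 : Fin 8).1 []).length = 35 := by decide +kernel
      rw [this]; decide
    exact absurd (h1.symm.trans h2) (by decide)
  have hi : 2 ≤ χ.ker.index := by
    have h0 : χ.ker.index ≠ 0 := Subgroup.index_ne_zero_of_finite
    have h1 : χ.ker.index ≠ 1 := fun h => h5 (Subgroup.index_eq_one.mp h)
    omega
  have hc := χ.ker.index_mul_card
  rw [He.card_H] at hc
  have h2 : 2 * Nat.card χ.ker ≤ 1958400 := hc ▸ Nat.mul_le_mul_right _ hi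
  have h3 : Nat.card (N.subgroupOf He.H) = Nat.card N := Nat.card_congr (Subgroup.subgroupOfEquivOfLe N_le).toEquiv
  have h4 := Subgroup.card_le_of_le hN
  omega

theorem exists_iso : Nonempty (N ≃* Sp) ∧ N.relIndex He.H = 2 := by
  haveI : Finite Cfsg.Spor.He := He.finite
  obtain ⟨f, -, hf⟩ := exists_hom_of_quot He.π ρ ρ_injective β S β_surj ngen u N le_rfl
    (fun j y => S_invariant _ (N_le (Subgroup.subset_closure ⟨j, rfl⟩)) y)
    (fun j y hy => Fin.ext (by rw [ρ_u, ngen_eq, β_hgen _ y hy, pTable_eq]))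
  have hsurj : Function.Surjective f :=
    surjective_of_hits f fun j => ⟨⟨ngen j, Subgroup.subset_closure ⟨j, rfl⟩⟩, hf j _⟩
  have hcard : Nat.card N = 979200 :=
    le_antisymm card_N_le (card_Sp ▸ Nat.card_le_card_of_surjective f hsurj)
  refine ⟨⟨MulEquiv.ofBijective f ((Nat.bijective_iff_surjective_and_card _).mpr ⟨hsurj, by rw [hcard, card_Sp]⟩)⟩, ?_⟩
  have h := (N.subgroupOf He.H).index_mul_card
  rw [He.card_H, Nat.card_congr (Subgroup.subgroupOfEquivOfLe N_le).toEquiv, hcard] at h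
  show (N.subgroupOf He.H).index = 2
  exact Nat.eq_of_mul_eq_mul_right (show 0 < 979200 by norm_num) (h.trans (by norm_num))

end CfsgLib.CosetEnum.HeSp
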