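import Cfsg.Agent.Lib.CosetEnum.HeSp.Base
import Cfsg.Agent.Lib.Recog.GF4
import Cfsg.Agent.Lib.Linear.SympCard
import Mathlib.LinearAlgebra.SymplecticGroup

/-!
`Sp₄(4)` acting on the 85 points of the projective space.
-/

set_option autoImplicit false

namespace CfsgLib.CosetEnum.HeSp

open CfsgLib.CosetEnum
open scoped Matrix

/-- The field. -/
abbrev F4 : Type := CfsgLib.Recog.GF4.K4

/-- The coordinates. -/
abbrev I4 : Type := Fin 2 ⊕ Fin 2

/-- Vectors. -/
abbrev V4 : Type := I4 → F4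

/-- The symplectic group. -/
abbrev Sp : Type := Matrix.symplecticGroup (Fin 2) F4

/-- Read a field element. -/
def fOf (k : ℕ) : F4 := ⟨⟨Nat.mod k 4, Nat.mod_lt _ (by decide)⟩⟩

/-- Code of four coordinates. -/
def code4 (a b c d : F4) : ℕ := a.val.1 + 4 * b.val.1 + 16 * c.val.1 + 64 * d.val.1

/-- The point spanned by four coordinates. -/
noncomputable def pt4 (a b c d : F4) : ℕ := pidxT.get 20 (code4 a b c d)

/-- The point spanned by a vector. -/
noncomputable def pidx (v : V4) : Fin 85 :=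
  ⟨Nat.mod (pt4 (v (.inl 0)) (v (.inl 1)) (v (.inr 0)) (v (.inr 1))) 85, Nat.mod_lt _ (by decide)⟩

/-- A coordinate of the representative of a point. -/
noncomputable def rc (k i : ℕ) : F4 := fOf (repT.get 20 k / 4 ^ i)

/-- Representative of a point. -/
noncomputable def rep (k : Fin 85) : V4 :=
  Sum.elim (fun i => rc k.1 i.1) (fun i => rc k.1 (2 + i.1))

theorem rep_ok : ∀ k : Fin 85, Nat.mod (pt4 (rc k.1 0) (rc k.1 1) (rc k.1 2) (rc k.1 3)) 85 = k.1 ∧
    (rc k.1 0 ≠ 0 ∨ rc k.1 1 ≠ 0 ∨ rc k.1 2 ≠ 0 ∨ rc k.1 3 ≠ 0) := by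
  decide +kernel

theorem pidx_rep (k : Fin 85) : pidx (rep k) = k := Fin.ext (rep_ok k).1

theorem rep_ne_zero (k : Fin 85) : rep k ≠ 0 := by
  intro h
  rcases (rep_ok k).2 with h1 | h1 | h1 | h1
  · exact h1 (congrFun h (.inl 0))
  · exact h1 (congrFun h (.inl 1))
  · exact h1 (congrFun h (.inr 0))
  · exact h1 (congrFun h (.inr 1))

/-- The first non-zero coordinate. -/
def lead4 (a b c d : F4) : F4 := if a ≠ 0 then a else if b ≠ 0 then b else if c ≠ 0 then c else d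

/-- The test behind the normal form of a vector. -/
def NormalForm (a b c d : F4) : Prop :=
  (a = 0 ∧ b = 0 ∧ c = 0 ∧ d = 0) ∨
    (lead4 a b c d ≠ 0 ∧ a = lead4 a b c d * rc (Nat.mod (pt4 a b c d) 85) 0 ∧
      b = lead4 a b c d * rc (Nat.mod (pt4 a b c d) 85) 1 ∧
      c = lead4 a b c d * rc (Nat.mod (pt4 a b c d) 85) 2 ∧
      d = lead4 a b c d * rc (Nat.mod (pt4 a b c d) 85) 3)

noncomputable instance instDecNormalForm (a b c d : F4) : Decidable (NormalForm a b c d) := by unfold NormalForm; infer_instance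

theorem nf_ok : ∀ a b c d : Fin 4, NormalForm ⟨a⟩ ⟨b⟩ ⟨c⟩ ⟨d⟩ := by
  decide +kernel

theorem scale_ok : ∀ s : Fin 4, ∀ k : Fin 85, s = 0 ∨
    Nat.mod (pt4 (⟨s⟩ * rc k.1 0) (⟨s⟩ * rc k.1 1) (⟨s⟩ * rc k.1 2) (⟨s⟩ * rc k.1 3)) 85 = k.1 := by
  decide +kernel

theorem exists_scalar {v : V4} (hv : v ≠ 0) : ∃ s : F4, s ≠ 0 ∧ v = s • rep (pidx v) := by
  have h := nf_ok (v (.inl 0)).val (v (.inl 1)).val (v (.inr 0)).val (v (.inr 1)).val
  rcases h with ⟨h0, h1, h2, h3⟩ | ⟨h, h0, h1, h2, h3⟩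
  · refine absurd (funext fun i => ?_) hv
    rcases i with i | i <;> fin_cases i <;> assumption
  · refine ⟨_, h, funext fun i => ?_⟩
    rcases i with i | i <;> fin_cases i
    exacts [h0, h1, h2, h3]

theorem pidx_smul_rep {s : F4} (hs : s ≠ 0) (k : Fin 85) : pidx (s • rep k) = k := by
  rcases scale_ok s.val k with h | h
  · exact absurd (congrArg CfsgLib.Recog.GF4.K4.mk h) hs
  · exact Fin.ext h

theorem pidx_smul {s : F4} (hs : s ≠ 0) {v : V4} (hv : v ≠ 0) : pidx (s • v) = pidx v := by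
  obtain ⟨t, ht, htv⟩ := exists_scalar hv
  conv_lhs => rw [htv, smul_smul]
  exact pidx_smul_rep (mul_ne_zero hs ht) _

theorem mulVec_ne_zero (A : Sp) {v : V4} (hv : v ≠ 0) : (A : Matrix I4 I4 F4) *ᵥ v ≠ 0 := by
  intro h
  apply hv
  have h1 : ((A⁻¹ * A : Sp) : Matrix I4 I4 F4) *ᵥ v = 0 := by
    rw [Submonoid.coe_mul, ← Matrix.mulVec_mulVec, h, Matrix.mulVec_zero]
  rwa [inv_mul_cancel, Submonoid.coe_one, Matrix.one_mulVec] at h1

/-- The action on the points. -/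
noncomputable def pact (A : Sp) (k : Fin 85) : Fin 85 := pidx ((A : Matrix I4 I4 F4) *ᵥ rep k)

theorem pact_one (k : Fin 85) : pact 1 k = k := by
  rw [pact, Submonoid.coe_one, Matrix.one_mulVec, pidx_rep]

theorem pact_mul (A B : Sp) (k : Fin 85) : pact (A * B) k = pact A (pact B k) := by
  obtain ⟨s, hs, hB⟩ := exists_scalar (mulVec_ne_zero B (rep_ne_zero k))
  rw [pact, Submonoid.coe_mul, ← Matrix.mulVec_mulVec, hB, Matrix.mulVec_smul,
    pidx_smul hs (mulVec_ne_zero A (rep_ne_zero _))]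
  rfl

/-- The permutation representation. -/
noncomputable def ρ : Sp →* Equiv.Perm (Fin 85) :=
  MonoidHom.mk' (fun A =>
    ⟨pact A, pact A⁻¹, fun k => by rw [← pact_mul, inv_mul_cancel, pact_one],
      fun k => by rw [← pact_mul, mul_inv_cancel, pact_one]⟩)
    fun A B => Equiv.ext (pact_mul A B)

theorem ρ_apply (A : Sp) (k : Fin 85) : ρ A k = pidx ((A : Matrix I4 I4 F4) *ᵥ rep k) := rfl

theorem sq_eq_one : ∀ s : Fin 4, (⟨s⟩ : F4) * ⟨s⟩ = 1 → (⟨s⟩ : F4) = 1 := by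
  decide +kernel

theorem ρ_injective : Function.Injective ρ := by
  refine (injective_iff_map_eq_one ρ).mpr fun A hA => ?_
  set M : Matrix I4 I4 F4 := (A : Matrix I4 I4 F4) with hM
  have hline : ∀ v : V4, v ≠ 0 → ∃ s : F4, M *ᵥ v = s • v := by
    intro v hv
    obtain ⟨t, ht, htv⟩ := exists_scalar hv
    obtain ⟨s, -, hs⟩ := exists_scalar (mulVec_ne_zero A (rep_ne_zero (pidx v)))
    have h1 : pidx (M *ᵥ rep (pidx v)) = pidx v := by rw [← ρ_apply, hA]; rfl
    rw [h1] at hs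
    refine ⟨s, ?_⟩
    calc M *ᵥ v = t • (M *ᵥ rep (pidx v)) := by rw [← Matrix.mulVec_smul, ← htv]
      _ = s • v := by rw [hs, smul_comm, ← htv]
  let e : I4 → V4 := fun i => Pi.single i (1 : F4)
  have hcol : ∀ i, ∃ s : F4, ∀ j, M j i = s * e i j := by
    intro i
    obtain ⟨s, hs⟩ := hline (e i) (fun h => one_ne_zero (α := F4) (by simpa [e] using congrFun h i))
    exact ⟨s, fun j => by simpa [e, Matrix.mulVec_single] using congrFun hs j⟩
  choose d hd using hcol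
  have hoff : ∀ i j, j ≠ i → M j i = 0 := fun i j h => by rw [hd i j]; simp [e, h]
  have hdiag : ∀ i, M i i = d i := fun i => by rw [hd i i]; simp [e]
  have hdd : ∀ i j, i ≠ j → d i = d j := by
    intro i j hij
    obtain ⟨s, hs⟩ := hline (e i + e j) (fun h => one_ne_zero (α := F4) (by simpa [e, hij] using congrFun h i))
    have h1 := congrFun hs i
    have h2 := congrFun hs j
    simp [e, Matrix.mulVec_add, Matrix.mulVec_single, hij, hij.symm, hoff i j hij.symm, hoff j i hij, hdiag] at h1 h2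
    rw [h1, h2]
  have hMs : M = d (.inl 0) • (1 : Matrix I4 I4 F4) := by
    ext i j
    rcases eq_or_ne i j with rfl | h
    · rcases eq_or_ne i (.inl 0) with rfl | h'
      · simp [hdiag]
      · simp [hdiag, hdd i _ h']
    · simp [hoff j i h, h]
  have hJ := congrFun (congrFun (SymplecticGroup.mem_iff.mp A.2) (.inr 0)) (.inl 0)
  rw [← hM, hMs] at hJ
  simp [Matrix.J] at hJ
  refine Subtype.ext ?_
  show M = 1
  have h1 : d (.inl 0) = 1 := sq_eq_one (d (.inl 0)).val hJ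
  rw [hMs, h1, one_smul]

theorem card_Sp : Nat.card Sp = 979200 := by
  rw [CfsgLib.Linear.Symp.card_symplectic, CfsgLib.Recog.GF4.card_K4]
  rfl

/-- The generating matrices. -/
def mat (j : ℕ) : Matrix I4 I4 F4 := fun a b =>
  fOf ((entries.getD j []).getD (4 * (Sum.elim (fun i : Fin 2 => i.1) (fun i => 2 + i.1) a) +
    Sum.elim (fun i : Fin 2 => i.1) (fun i => 2 + i.1) b) 0)

theorem mat_symp : ∀ j : Fin 5, mat j.1 * Matrix.J (Fin 2) F4 * (mat j.1)ᵀ = Matrix.J (Fin 2) F4 := by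
  decide +kernel

/-- The generators of the symplectic group. -/
def u (j : Fin 5) : Sp := ⟨mat j.1, SymplecticGroup.mem_iff.mpr (mat_symp j)⟩

/-- One coordinate of an image. -/
noncomputable def rowv (E : List ℕ) (r k : ℕ) : F4 :=
  fOf (E.getD (4 * r + 0) 0) * rc k 0 + fOf (E.getD (4 * r + 1) 0) * rc k 1 +
    fOf (E.getD (4 * r + 2) 0) * rc k 2 + fOf (E.getD (4 * r + 3) 0) * rc k 3

theorem mat_ok : ∀ j : Fin 5, ∀ k : Fin 85,
    Nat.mod (pt4 (rowv (entries.getD j.1 []) 0 k.1) (rowv (entries.getD j.1 []) 1 k.1)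
      (rowv (entries.getD j.1 []) 2 k.1) (rowv (entries.getD j.1 []) 3 k.1)) 85 = act pTable j.1 k.1 := by
  decide +kernel

theorem ρ_u (j : Fin 5) (k : Fin 85) : ((ρ (u j) k : Fin 85) : ℕ) = act pTable j.1 k.1 := by
  rw [ρ_apply, ← mat_ok j k]
  have h : ∀ r : I4, (mat j.1 *ᵥ rep k) r =
      rowv (entries.getD j.1 []) (Sum.elim (fun i : Fin 2 => i.1) (fun i => 2 + i.1) r) k.1 := by
    intro r
    rw [Matrix.mulVec, dotProduct, Fintype.sum_sum_type, Fin.sum_univ_two, Fin.sum_univ_two, ← add_assoc]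
    rfl
  show Nat.mod (pt4 ((mat j.1 *ᵥ rep k) (.inl 0)) ((mat j.1 *ᵥ rep k) (.inl 1)) ((mat j.1 *ᵥ rep k) (.inr 0))
    ((mat j.1 *ᵥ rep k) (.inr 1))) 85 = _
  rw [h, h, h, h]
  rfl

/-- A homomorphism hitting the five generators is onto. -/
theorem surjective_of_hits {N : Type*} [Group N] (f : N →* Sp) (h : ∀ j : Fin 5, ∃ z, f z = u j) :
    Function.Surjective f := by
  rw [← MonoidHom.range_eq_top]
  refine Subgroup.eq_top_of_le_card _ ?_
  rw [card_Sp]
  refine Base.lower Sp inferInstance ρ f.range inferInstance fun j hj => ?_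
  have hj : j < 5 := hj
  obtain ⟨z, hz⟩ := h ⟨j, hj⟩
  exact ⟨u ⟨j, hj⟩, ⟨z, hz⟩, ρ_u ⟨j, hj⟩⟩

end CfsgLib.CosetEnum.HeSp
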